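import Cfsg.Agent.CosetEnum.Fi24He.Data
import Cfsg.Agent.CosetEnum.Fi24.Transposition
import Cfsg.Agent.CosetEnum.HeSimple.Final

set_option autoImplicit false
set_option maxRecDepth 100000
set_option Elab.async false

/-!
A Held subgroup of the commutator subgroup of the presented Fi24.  An element fixing the points of the
twelve generators is trivial, so the relators of He are checked at twelve points.
-/

namespace CfsgLib.CosetEnum.Fi24He

open Fi24 (sq_g inv_g braid_g closure_g)
open Fi24H (H perm)

theorem uW_spec (x : ℕ) (hx : x < 12) :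
    prodw Fi24.setup.g (uW x) * Fi24.setup.g 11 * (prodw Fi24.setup.g (uW x))⁻¹ = Fi24.setup.g x := by
  have step : ∀ a b : ℕ,
      Fi24.setup.g a * Fi24.setup.g b * Fi24.setup.g a = Fi24.setup.g b * Fi24.setup.g a * Fi24.setup.g b →
      prodw Fi24.setup.g (uW a) * Fi24.setup.g 11 * (prodw Fi24.setup.g (uW a))⁻¹ = Fi24.setup.g a →
      prodw Fi24.setup.g ([a, b] ++ uW a) * Fi24.setup.g 11 *
        (prodw Fi24.setup.g ([a, b] ++ uW a))⁻¹ = Fi24.setup.g b := by
    intro a b hb ha
    rw [prodw_append]
    calc prodw Fi24.setup.g [a, b] * prodw Fi24.setup.g (uW a) * Fi24.setup.g 11 *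
          (prodw Fi24.setup.g [a, b] * prodw Fi24.setup.g (uW a))⁻¹
        = prodw Fi24.setup.g [a, b] *
            (prodw Fi24.setup.g (uW a) * Fi24.setup.g 11 * (prodw Fi24.setup.g (uW a))⁻¹) *
            (prodw Fi24.setup.g [a, b])⁻¹ := by simp only [mul_inv_rev, mul_assoc]
      _ = Fi24.setup.g a * Fi24.setup.g b * Fi24.setup.g a * Fi24.setup.g b * Fi24.setup.g a := by
          rw [ha]
          simp only [prodw, List.map_cons, List.map_nil, List.prod_cons, List.prod_nil, mul_one,
            mul_inv_rev, inv_g, mul_assoc]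
      _ = Fi24.setup.g b := by
          rw [hb]
          simp [mul_assoc, ← mul_assoc (Fi24.setup.g a) (Fi24.setup.g a),
            ← mul_assoc (Fi24.setup.g b) (Fi24.setup.g b), sq_g]
  have h11 : prodw Fi24.setup.g (uW 11) * Fi24.setup.g 11 * (prodw Fi24.setup.g (uW 11))⁻¹ =
      Fi24.setup.g 11 := by simp [uW, prodw]
  have h10 := step 11 10 ((braid_g 10 11 (by decide +kernel)).symm) h11
  have h0 := step 10 0 ((braid_g 0 10 (by decide +kernel)).symm) h10
  have h1 := step 0 1 (braid_g 0 1 (by decide +kernel)) h0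
  have h2 := step 1 2 (braid_g 1 2 (by decide +kernel)) h1
  have h3 := step 2 3 (braid_g 2 3 (by decide +kernel)) h2
  have h4 := step 3 4 (braid_g 3 4 (by decide +kernel)) h3
  have h7 := step 3 7 (braid_g 3 7 (by decide +kernel)) h3
  have h5 := step 4 5 (braid_g 4 5 (by decide +kernel)) h4
  have h6 := step 5 6 (braid_g 5 6 (by decide +kernel)) h5
  have h9 := step 6 9 (braid_g 6 9 (by decide +kernel)) h6
  have h8 := step 7 8 (braid_g 7 8 (by decide +kernel)) h7
  interval_cases x <;> assumption

/-- Evaluating a word at a point, forcing each step. -/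
noncomputable def walkF (w : List ℕ) (i : ℕ) : ℕ :=
  List.rec (fun i => i) (fun x _ ih i => force (Fi24H.T x i) ih) w i

theorem walkF_eq : ∀ (w : List ℕ) (i : ℕ), walkF w i = Fi24H.walkT w i := by
  intro w
  induction w with
  | nil => intro i; rfl
  | cons x w ih =>
    intro i
    show force (Fi24H.T x i) (fun a => walkF w a) = _
    rw [force_eq, ih, Fi24H.walkT_cons]

/-- Evaluating the image of a word of He at a point. -/
noncomputable def walkI (w : List ℕ) (i : ℕ) : ℕ :=
  List.rec (fun i => i) (fun x _ ih i => force (walkF (img x) i) ih) w i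

theorem walkI_eq : ∀ (w : List ℕ) (i : ℕ), walkI w i = Fi24H.walkT (w.flatMap img) i := by
  intro w
  induction w with
  | nil => intro i; rfl
  | cons x w ih =>
    intro i
    show force (walkF (img x) i) (fun a => walkI w a) = _
    rw [force_eq, ih, walkF_eq, List.flatMap_cons, Fi24H.walkT_append]

theorem img_ok : ((List.range 7).all fun x =>
    (img x).all (fun y => Nat.blt y 12) && Nat.beq ((img x).length % 2) 0) = true := by decide +kernel

theorem uW_ok : ((List.range 12).all fun x =>
    (uW x).all (fun y => Nat.blt y 12) && Nat.beq (walkF (uW x).reverse 0) (pts.getD x 0)) = true := by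
  decide +kernel

theorem relators_fix : (He.words.all fun w => w.all (fun x => Nat.blt x 7) &&
    pts.all (fun p => Nat.beq (walkI w p) p)) = true := by decide +kernel

theorem img_moves : Nat.beq (walkF (img 0) 16) 16 = false := by
  decide +kernel

theorem flatMap_lt (w : List ℕ) (hw : ∀ x ∈ w, x < 7) : ∀ y ∈ w.flatMap img, y < 12 := by
  intro y hy
  obtain ⟨x, hx, hy⟩ := List.mem_flatMap.mp hy
  have h := List.all_eq_true.mp img_ok x (List.mem_range.mpr (hw x hx))
  rw [Bool.and_eq_true] at h
  simpa using List.all_eq_true.mp h.1 y hy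

/-- The presented He embeds in the commutator subgroup of the presented Fi24. -/
theorem exists_he_hom : ∃ f : He.setup.Grp →* Fi24.setup.Grp,
    Function.Injective f ∧ f.range ≤ commutator Fi24.setup.Grp := by
  haveI := Fi24.finite_grp
  obtain ⟨φ, e, hφ, he, he0, hinj, -⟩ := Fi24.order_and_action
  have hwalk : ∀ w : List ℕ, (∀ x ∈ w, x < 12) → ∀ i : Fin 306936,
      ((φ (prodw Fi24.setup.g w))⁻¹ i).val = Fi24H.walkT w i := fun w hw i => by
    rw [Fi24.setup.hom_prodw φ hφ w hw]
    exact Fi24H.perm_word _ w hw i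
  have hrev : ∀ w : List ℕ, (∀ x ∈ w, x < 12) → (φ (prodw Fi24.setup.g w) 0).val = Fi24H.walkT w.reverse 0 := by
    intro w hw
    have h := prodw_rev_iv (g := Fi24.setup.g) 12 id (fun x _ _ => (inv_g x).symm) w
      (fun y hy => ⟨hw y hy, hw y hy⟩)
    rw [List.map_id] at h
    have h2 := hwalk w.reverse (fun x hx => hw x (List.mem_reverse.mp hx)) 0
    rw [h, map_inv, inv_inv] at h2
    exact h2
  have key : ∀ w : List ℕ, (∀ x ∈ w, x < 12) →
      (∀ p ∈ pts, Fi24H.walkT w p = p) → prodw Fi24.setup.g w = 1 := by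
    intro w hw hp
    set y := prodw Fi24.setup.g w with hy
    have hfix : ∀ x, x < 12 →
        φ y (φ (prodw Fi24.setup.g (uW x)) 0) = φ (prodw Fi24.setup.g (uW x)) 0 := by
      intro x hx
      have h := List.all_eq_true.mp uW_ok x (List.mem_range.mpr hx)
      rw [Bool.and_eq_true] at h
      have hu : ∀ a ∈ uW x, a < 12 := fun a ha => by simpa using List.all_eq_true.mp h.1 a ha
      have hv : (φ (prodw Fi24.setup.g (uW x)) 0).val = pts.getD x 0 := by
        rw [hrev _ hu, ← walkF_eq]
        exact Nat.eq_of_beq_eq_true h.2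
      have hl : x < pts.length := by
        have : pts.length = 12 := by decide
        omega
      have hm : (φ y)⁻¹ (φ (prodw Fi24.setup.g (uW x)) 0) = φ (prodw Fi24.setup.g (uW x)) 0 := by
        refine Fin.ext ?_
        rw [hwalk w hw, hv]
        exact hp _ (by rw [List.getD_eq_getElem _ _ hl]; exact List.getElem_mem hl)
      exact (Equiv.Perm.inv_eq_iff_eq.mp hm).symm
    have hcomm : ∀ x, x < 12 → y * Fi24.setup.g x = Fi24.setup.g x * y := by
      intro x hx
      set u := prodw Fi24.setup.g (uW x)
      have hH : u⁻¹ * y * u ∈ H := by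
        refine (Fi24.mem_H_iff he he0 _).mp ?_
        rw [map_mul, map_mul, map_inv, Equiv.Perm.mul_apply, Equiv.Perm.mul_apply, hfix x hx,
          Equiv.Perm.inv_def, Equiv.symm_apply_apply]
      rw [← Fi24.centralizer_eq, Subgroup.mem_centralizer_singleton_iff] at hH
      have hs : u * Fi24.setup.g 11 * u⁻¹ = Fi24.setup.g x := uW_spec x hx
      rw [← hs]
      calc y * (u * Fi24.setup.g 11 * u⁻¹) = u * (u⁻¹ * y * u * Fi24.setup.g 11) * u⁻¹ := by group
        _ = u * (Fi24.setup.g 11 * (u⁻¹ * y * u)) * u⁻¹ := by rw [hH]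
        _ = u * Fi24.setup.g 11 * u⁻¹ * y := by group
    have hz : y ∈ Subgroup.center Fi24.setup.Grp := by
      rw [Subgroup.mem_center_iff]
      intro z
      have hz : z ∈ Subgroup.closure (Fi24.setup.g '' {x | x < 12}) := closure_g ▸ Subgroup.mem_top z
      induction hz using Subgroup.closure_induction with
      | mem z hz => obtain ⟨x, hx, rfl⟩ := hz; exact (hcomm x hx).symm
      | one => simp
      | mul a b _ _ ha hb => rw [mul_assoc, hb, ← mul_assoc, ha, mul_assoc]
      | inv a _ ha => rw [inv_mul_eq_iff_eq_mul, ← mul_assoc, ha, mul_inv_cancel_right]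
    have h0 : φ y 0 = 0 := by
      have := hfix 11 (by norm_num)
      simpa [uW, prodw] using this
    refine hinj (Equiv.ext fun i => ?_)
    obtain ⟨z, hzi⟩ := QuotientGroup.mk_surjective (e.symm i)
    have h1 := he z ((1 : Fi24.setup.Grp) : Fi24.setup.Grp ⧸ H)
    rw [he0, MulAction.Quotient.smul_coe, smul_eq_mul, mul_one, hzi, e.apply_symm_apply] at h1
    rw [map_one, Equiv.Perm.one_apply, h1, ← Equiv.Perm.mul_apply, ← map_mul,
      ← (Subgroup.mem_center_iff.mp hz) z, map_mul, Equiv.Perm.mul_apply, h0]
  have hflat : ∀ w : List ℕ, prodw (fun x => prodw Fi24.setup.g (img x)) w =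
      prodw Fi24.setup.g (w.flatMap img) := by
    intro w
    induction w with
    | nil => rfl
    | cons x w ih => rw [prodw_cons, ih, List.flatMap_cons, prodw_append]
  have hw : ∀ w ∈ He.words, prodw (fun x => prodw Fi24.setup.g (img x)) w = 1 := by
    intro w hw
    have h := List.all_eq_true.mp relators_fix w hw
    rw [Bool.and_eq_true] at h
    rw [hflat]
    refine key _ (flatMap_lt w fun x hx => by simpa using List.all_eq_true.mp h.1 x hx) fun p hp => ?_
    rw [← walkI_eq]
    exact Nat.eq_of_beq_eq_true (List.all_eq_true.mp h.2 p hp)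
  obtain ⟨f, hf⟩ := He.setup.exists_hom (fun x => prodw Fi24.setup.g (img x)) (fun x hx => by
    have hm : [x, x] ∈ He.words := by
      have hx' : x < 7 := hx
      interval_cases x <;> decide
    simpa [prodw] using hw _ hm) hw
  haveI : IsSimpleGroup He.setup.Grp := He.isSimpleGroup_He
  have hne : f (He.setup.g 0) ≠ 1 := by
    rw [hf 0 (show 0 < He.setup.k by decide)]
    intro h
    have h1 : ∀ y ∈ img 0, y < 12 := by
      have := flatMap_lt [0] (by decide)
      simpa using this
    have h2 := hwalk (img 0) h1 ⟨16, by norm_num⟩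
    rw [h, map_one, inv_one, Equiv.Perm.one_apply] at h2
    have h3 := img_moves
    rw [walkF_eq, ← h2] at h3
    simp at h3
  refine ⟨f, ?_, ?_⟩
  · rw [← MonoidHom.ker_eq_bot_iff]
    refine (MonoidHom.normal_ker f).eq_bot_or_eq_top.resolve_right fun htop => hne ?_
    exact MonoidHom.mem_ker.mp (htop ▸ Subgroup.mem_top _)
  · obtain ⟨ε, hε⟩ := Fi24.exists_sign
    have htop : He.setup.letSub (List.range 7) = ⊤ :=
      He.setup.letSub_all _ (fun x hx => List.mem_range.mpr hx)
    rintro _ ⟨z, rfl⟩
    have hz : z ∈ He.setup.letSub (List.range 7) := htop ▸ Subgroup.mem_top z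
    rw [Fi24.commutator_eq hε, MonoidHom.mem_ker]
    induction hz using Subgroup.closure_induction with
    | mem z hz =>
      obtain ⟨x, hx, rfl⟩ := hz
      have hx' : x < 7 := List.mem_range.mp hx
      rw [hf x hx']
      have h := List.all_eq_true.mp img_ok x hx
      rw [Bool.and_eq_true] at h
      have hlt : ∀ y ∈ img x, y < 12 := fun y hy => by simpa using List.all_eq_true.mp h.1 y hy
      rw [Fi24.setup.hom_prodw ε hε _ hlt]
      simp only [prodw, List.map_const', List.prod_replicate]
      rw [← Nat.mod_add_div (img x).length 2, Nat.eq_of_beq_eq_true h.2, zero_add, pow_mul]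
      simp
    | one => simp
    | mul a b _ _ ha hb => rw [map_mul, map_mul, ha, hb, one_mul]
    | inv a _ ha => rw [map_inv, map_inv, ha, inv_one]

/-- A Held subgroup of the presented group Fi24'. -/
theorem exists_he : ∃ K : Subgroup Cfsg.Spor.Fi24', Cfsg.IsHe K := by
  obtain ⟨f, hinj, hle⟩ := exists_he_hom
  let f' : He.setup.Grp →* Cfsg.Spor.Fi24' := f.codRestrict _ (fun z => hle ⟨z, rfl⟩)
  have hinj' : Function.Injective f' := fun a b h => hinj (congrArg Subtype.val h)
  let σ : He.setup.Grp ≃* f'.range := MonoidHom.ofInjective hinj'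
  haveI : IsSimpleGroup He.setup.Grp := He.isSimpleGroup_He
  exact ⟨f'.range, σ.symm.isSimpleGroup, by rw [← Nat.card_congr σ.toEquiv]; exact He.card_He⟩

end CfsgLib.CosetEnum.Fi24He
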